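import Groth.Agent.IndCofLib.Primary

/-! Descending chains of subobjects of cofinite type stabilise. -/

set_option autoImplicit false
set_option linter.style.haveILetI false
universe v
open CategoryTheory CategoryTheory.Limits

namespace Groth.Agent.IndCofLib

variable {C : Type v} [SmallCategory C] [Abelian C]

theorem chain_stabilizes (hart : ∀ X : C, IsArtinianObject X) {p : ℕ} (hp : p.Prime)
    (htor : ∀ X : C, ∃ n : ℕ, (p ^ n) • 𝟙 X = 0) {A : Ind C} (hA : Cof A) (S : ℕ → Subobject A) (hS : Antitone S)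
    (hcof : ∀ m, Cof ((S m : Subobject A) : Ind C)) : ∃ N : ℕ, ∀ m : ℕ, N ≤ m → S m = S N := by
  have hT := tors_of_pow hp htor
  choose N hN using fun m => stab hart hT (hcof m) (n := p) hp.pos
  let a : ∀ m, ((S m : Subobject A) : Ind C) ⟶ A := fun m => (S m).arrow
  let e : ∀ m, ((S m : Subobject A) : Ind C) ⟶ A := fun m => (p ^ N m) • a m
  have mono : ∀ {m m' : ℕ}, m ≤ m' → e m' ≫ cokernel.π (e m) = 0 := fun {m m'} h => by
    obtain ⟨T, π, hπ, t, ht⟩ := exists_refine _ _ (hN m' (N m' + N m) _ (𝟙 _))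
    rw [Preadditive.comp_nsmul, Preadditive.comp_nsmul, Category.comp_id, Category.comp_id] at ht
    refine comp_cokernel_eq_zero π ((p ^ N m') • (t ≫ Subobject.ofLE _ _ (hS h))) ?_
    have h1 := congrArg (· ≫ a m') ht
    simp only [Preadditive.nsmul_comp] at h1
    simp only [e, Preadditive.comp_nsmul, Preadditive.nsmul_comp, Category.assoc, a, Subobject.ofLE_arrow,
      ← mul_smul, ← pow_add] at h1 ⊢
    rw [h1, add_comm]
  have div : ∀ (m : ℕ) {T : Ind C} (x : T ⟶ A), x ≫ cokernel.π (e m) = 0 →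
      ∃ (T' : Ind C) (π : T' ⟶ T) (_ : Epi π) (y : T' ⟶ A), π ≫ x = p • y ∧ y ≫ cokernel.π (e m) = 0 := by
    intro m T x hx
    obtain ⟨T₁, π₁, hπ₁, s, hs⟩ := exists_refine _ _ hx
    obtain ⟨T₂, π₂, hπ₂, t, ht⟩ := exists_refine _ _ (hN m (N m + 1) _ s)
    rw [Preadditive.comp_nsmul, Preadditive.comp_nsmul, Category.comp_id] at ht
    refine ⟨T₂, π₂ ≫ π₁, epi_comp _ _, t ≫ e m, ?_, by rw [Category.assoc, cokernel.condition, comp_zero]⟩
    rw [Category.assoc, hs, ← Category.assoc]
    simp only [e, Preadditive.comp_nsmul]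
    rw [← Preadditive.nsmul_comp, ht, Preadditive.nsmul_comp, pow_succ', mul_smul]
  -- socles
  let Ap := hA p hp.pos
  choose φ hφ using fun m => exists_tor (tor A p ≫ cokernel.π (e m)) p
    (by rw [← Preadditive.nsmul_comp, smul_tor, zero_comp])
  have hR : ∀ m, Rep (kernel (φ m)) := fun m =>
    rep_kernel Ap (cof_cokernel hart hT (hcof m) hA (e m) p hp.pos) _
  let g : ∀ m, (hR m).witness ⟶ Ap.witness := fun m =>
    Ind.yoneda.preimage ((hR m).getIso.hom ≫ kernel.ι (φ m) ≫ Ap.getIso.inv)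
  have hker : ∀ m, (kernel.ι (φ m) ≫ tor A p) ≫ cokernel.π (e m) = 0 := fun m => by
    rw [Category.assoc, ← hφ, kernel.condition_assoc, zero_comp]
  have hg : ∀ m, g (m + 1) ≫ cokernel.π (g m) = 0 := fun m => by
    have h0 : (kernel.ι (φ (m + 1)) ≫ tor A p) ≫ cokernel.π (e m) = 0 := by
      obtain ⟨T, π, hπ, y, hy⟩ := exists_refine _ _ (hker (m + 1))
      rw [← cancel_epi π, comp_zero, ← Category.assoc, hy, Category.assoc, mono (Nat.le_succ m), comp_zero]
    have h1 : kernel.ι (φ (m + 1)) ≫ φ m = 0 := by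
      rw [← cancel_mono (tor (cokernel (e m)) p), Category.assoc, hφ, ← Category.assoc, h0, zero_comp]
    have : g (m + 1) = Ind.yoneda.preimage ((hR (m + 1)).getIso.hom ≫ kernel.lift (φ m) _ h1 ≫
        (hR m).getIso.inv) ≫ g m := by
      apply Ind.yoneda.map_injective
      simp [g]
    rw [this, Category.assoc, cokernel.condition, comp_zero]
  obtain ⟨K, hK⟩ := exists_stable (hart _) (fun m => (hR m).witness) g hg
  have hgm : ∀ m, Mono (g m) := fun m => Ind.yoneda.mono_of_mono_map (by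
    simp only [g, Functor.map_preimage]; infer_instance)
  have soc : ∀ m, K ≤ m → ∀ {T : Ind C} (x : T ⟶ A), p • x = 0 → x ≫ cokernel.π (e K) = 0 →
      x ≫ cokernel.π (e m) = 0 := fun m hm T x hx hxK => by
    obtain ⟨y, hy⟩ := exists_tor x p hx
    have h1 : y ≫ φ K = 0 := by
      rw [← cancel_mono (tor (cokernel (e K)) p), Category.assoc, hφ, ← Category.assoc, hy, hxK, zero_comp]
    haveI := hgm m
    have h2 := congrArg Ind.yoneda.map (Abelian.monoLift_comp (g m) (g K) (hK K le_rfl m hm))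
    simp only [g, Functor.map_comp, Functor.map_preimage] at h2
    have e1 : kernel.ι (φ K) = ((hR K).getIso.inv ≫ Ind.yoneda.map (Abelian.monoLift (g m) (g K)
        (hK K le_rfl m hm)) ≫ (hR m).getIso.hom) ≫ kernel.ι (φ m) := by
      rw [← cancel_mono Ap.getIso.inv, ← cancel_epi (hR K).getIso.hom]
      simpa [g] using h2.symm
    rw [← hy, ← kernel.lift_ι (φ K) y h1, e1]
    simp only [Category.assoc]
    rw [← hφ m, kernel.condition_assoc]
    simp
  have claim : ∀ m, K ≤ m → ∀ (k : ℕ) (T : Ind C) (x : T ⟶ A), (p ^ k) • x = 0 →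
      x ≫ cokernel.π (e K) = 0 → x ≫ cokernel.π (e m) = 0 := by
    intro m hm k
    induction k with
    | zero => intro T x hx _; rw [pow_zero, one_smul] at hx; rw [hx, zero_comp]
    | succ k ih =>
      intro T x hx hxK
      obtain ⟨T', π, hπ, y, hy, hym⟩ := div m (p • x) (ih T (p • x) (by rw [← mul_smul, ← pow_succ]; exact hx)
        (by rw [Preadditive.nsmul_comp, hxK, smul_zero]))
      have hyK : y ≫ cokernel.π (e K) = 0 := by
        obtain ⟨T'', π', hπ', z, hz⟩ := exists_refine _ _ hym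
        rw [← cancel_epi π', comp_zero, ← Category.assoc, hz, Category.assoc, mono hm, comp_zero]
      have h := soc m hm (π ≫ x - y) (by rw [smul_sub, ← Preadditive.comp_nsmul, hy, sub_self])
        (by rw [Preadditive.sub_comp, Category.assoc, hxK, comp_zero, hyK, sub_zero])
      rw [Preadditive.sub_comp, hym, sub_zero, Category.assoc] at h
      exact (cancel_epi π).1 (h.trans comp_zero.symm)
  have hE : ∀ m, K ≤ m → e K ≫ cokernel.π (a m) = 0 := fun m hm => by
    have h0 : e K ≫ cokernel.π (e m) = 0 := IndStab.hom_ext_yoneda _ _ fun X z => by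
      obtain ⟨k, hk⟩ := htor X
      rw [comp_zero, ← Category.assoc]
      refine claim m hm k _ (z ≫ e K) ?_ (by rw [Category.assoc, cokernel.condition, comp_zero])
      have := congrArg (fun t => Ind.yoneda.map t ≫ (z ≫ e K)) hk
      simpa [Functor.map_nsmul, Preadditive.nsmul_comp] using this
    obtain ⟨T, π, hπ, y, hy⟩ := exists_refine _ _ h0
    rw [← cancel_epi π, comp_zero, ← Category.assoc, hy, Category.assoc]
    simp only [e, Preadditive.nsmul_comp, cokernel.condition, smul_zero, comp_zero]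
  -- the finite part
  have hG : Rep (cokernel ((p ^ N K) • 𝟙 ((S K : Subobject A) : Ind C))) :=
    rep_coker hart hT (hcof K) (pow_pos hp.pos _)
  have hle : ∀ j, S (K + j) ≤ S K := fun j => hS (Nat.le_add_right K j)
  have hX : ∀ j, Rep (kernel ((p ^ N (K + j)) • 𝟙 ((S (K + j) : Subobject A) : Ind C))) := fun j =>
    hcof _ _ (pow_pos hp.pos _)
  let w : ∀ j, kernel ((p ^ N (K + j)) • 𝟙 ((S (K + j) : Subobject A) : Ind C)) ⟶
      cokernel ((p ^ N K) • 𝟙 ((S K : Subobject A) : Ind C)) :=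
    fun j => tor _ _ ≫ Subobject.ofLE _ _ (hle j) ≫ cokernel.π _
  let q : ∀ j, (hX j).witness ⟶ hG.witness := fun j =>
    Ind.yoneda.preimage ((hX j).getIso.hom ≫ w j ≫ hG.getIso.inv)
  have hdec : ∀ j (T : Ind C) (x : T ⟶ ((S (K + j) : Subobject A) : Ind C)),
      ∃ (T' : Ind C) (π : T' ⟶ T) (_ : Epi π) (y : T' ⟶ ((S (K + j) : Subobject A) : Ind C))
        (z : T' ⟶ kernel ((p ^ N (K + j)) • 𝟙 ((S (K + j) : Subobject A) : Ind C))),
        π ≫ x = (p ^ N (K + j)) • y + z ≫ tor _ _ := fun j T x => exists_decomp (hN (K + j)) x _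
  have hsmall : ∀ j (T : Ind C) (y : T ⟶ ((S (K + j) : Subobject A) : Ind C)),
      ((p ^ N (K + j)) • y) ≫ Subobject.ofLE _ _ (hle j) ≫ cokernel.π ((p ^ N K) • 𝟙 _) = 0 := by
    intro j T y
    obtain ⟨T', π, hπ, s, hs⟩ := exists_refine (y ≫ e (K + j)) (e K)
      (by rw [Category.assoc, mono (Nat.le_add_right K j), comp_zero])
    rw [← cancel_epi π, comp_zero, ← Category.assoc, ← Category.assoc,
      show (π ≫ ((p ^ N (K + j)) • y)) ≫ Subobject.ofLE _ _ (hle j) = (p ^ N K) • s by
        rw [← cancel_mono (S K).arrow, Category.assoc, Subobject.ofLE_arrow, Preadditive.nsmul_comp]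
        simp only [e, a, Preadditive.comp_nsmul, Preadditive.nsmul_comp, Category.assoc] at hs ⊢
        exact hs]
    exact smul_comp_cokernel _ _
  have hq : ∀ j, q (j + 1) ≫ cokernel.π (q j) = 0 := fun j => by
    apply Ind.yoneda.map_injective
    obtain ⟨T, π, hπ, y, z, hz⟩ := hdec j _ (tor _ (p ^ N (K + (j + 1))) ≫
      Subobject.ofLE _ _ (hS (show K + j ≤ K + (j + 1) by omega)))
    have h1 : π ≫ w (j + 1) = z ≫ w j := by
      have h2 := congrArg (fun t => t ≫ Subobject.ofLE _ _ (hle j) ≫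
        cokernel.π ((p ^ N K) • 𝟙 ((S K : Subobject A) : Ind C))) hz
      simp only [Preadditive.add_comp, hsmall, zero_add, Category.assoc, Subobject.ofLE_comp_ofLE_assoc] at h2
      exact h2
    have h3 : Ind.yoneda.map (q j) ≫ Ind.yoneda.map (cokernel.π (q j)) = 0 := by
      rw [← Functor.map_comp, cokernel.condition, Functor.map_zero]
    rw [Functor.map_comp, Functor.map_zero, ← cancel_epi (hX (j + 1)).getIso.inv, ← cancel_epi π, comp_zero,
      comp_zero]
    simp only [q, Functor.map_preimage, Category.assoc, Iso.inv_hom_id_assoc] at h3 ⊢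
    have h4 := (z ≫ (hX j).getIso.inv) ≫= h3
    rw [reassoc_of% h1]
    simpa using h4
  obtain ⟨J, hJ⟩ := exists_stable (hart _) (fun j => (hX j).witness) q hq
  refine ⟨K + J, fun m hm => le_antisymm (hS hm) ?_⟩
  obtain ⟨j, rfl⟩ : ∃ j, m = K + j := ⟨m - K, by omega⟩
  rw [le_iff_comp_cokernel]
  have hEm := hE (K + j) (Nat.le_add_right K j)
  have hEt : ∀ {T : Ind C} (u : T ⟶ A), u ≫ cokernel.π (e K) = 0 → u ≫ cokernel.π (a (K + j)) = 0 :=
    fun u hu => by
      rw [← cokernel.π_desc _ _ hEm, ← Category.assoc, hu, zero_comp]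
  obtain ⟨T, π, hπ, y, z, hz⟩ := hdec J _ (𝟙 _)
  obtain ⟨T₀, π₀, hπ₀, t, ht⟩ := exists_refine (q J) (q j) (hJ J le_rfl j (by omega))
  haveI : Epi (Ind.yoneda.map π₀) := inferInstance
  let P := pullback (Ind.yoneda.map π₀) (z ≫ (hX J).getIso.inv)
  let z' : P ⟶ kernel ((p ^ N (K + j)) • 𝟙 ((S (K + j) : Subobject A) : Ind C)) :=
    pullback.fst _ _ ≫ Ind.yoneda.map t ≫ (hX j).getIso.hom
  let π' : P ⟶ T := pullback.snd _ _
  have hw : π' ≫ z ≫ w J = z' ≫ w j := by
    have h2 := congrArg Ind.yoneda.map ht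
    simp only [q, Functor.map_comp, Functor.map_preimage] at h2
    rw [← cancel_mono hG.getIso.inv]
    simp only [z', π', Category.assoc]
    rw [← h2, pullback.condition_assoc]
    simp
  simp only [w, ← Category.assoc] at hw
  rw [← sub_eq_zero, ← Preadditive.sub_comp] at hw
  obtain ⟨T₁, π₁, hπ₁, s, hs⟩ := exists_refine _ _ hw
  have hs' := congrArg (· ≫ (S K).arrow) hs
  simp only [Category.assoc, Preadditive.sub_comp, Subobject.ofLE_arrow, Preadditive.nsmul_comp,
    Category.id_comp] at hs'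
  have hza : (π₁ ≫ π' ≫ z ≫ tor _ _ ≫ (S (K + J)).arrow) ≫ cokernel.π (a (K + j)) = 0 := by
    have e2 := congrArg (fun t => t ≫ cokernel.π (a (K + j))) hs'
    have h4 : (s ≫ e K) ≫ cokernel.π (a (K + j)) = 0 := by rw [Category.assoc, hEm, comp_zero]
    simp only [Preadditive.comp_sub, Preadditive.sub_comp, Category.assoc, Preadditive.comp_nsmul, a, e,
      cokernel.condition, comp_zero, sub_zero, Preadditive.nsmul_comp] at e2 h4 ⊢
    rw [e2, h4]
  have hya : (y ≫ e (K + J)) ≫ cokernel.π (a (K + j)) = 0 :=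
    hEt _ (by rw [Category.assoc, mono (Nat.le_add_right K J), comp_zero])
  have h5 := congrArg (fun t => (π₁ ≫ π' ≫ t ≫ (S (K + J)).arrow) ≫ cokernel.π (a (K + j))) hz
  simp only [Category.comp_id, Preadditive.add_comp, Preadditive.comp_add, Preadditive.nsmul_comp,
    Category.assoc, Preadditive.comp_nsmul] at h5
  simp only [e, a, Category.assoc, Preadditive.nsmul_comp, Preadditive.comp_nsmul] at hya hza
  rw [← cancel_epi π, ← cancel_epi π', ← cancel_epi π₁, comp_zero, comp_zero, comp_zero]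
  simp only [a] at h5
  rw [h5, hza, add_zero, ← Preadditive.comp_nsmul, ← Preadditive.comp_nsmul, hya, comp_zero, comp_zero]

end Groth.Agent.IndCofLib
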