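import Groth.Agent.IndCofLib.Ess
import Mathlib.RingTheory.Int.Basic
import Mathlib.Data.Int.GCD

/-! Ind-objects of cofinite type: stabilisation and the abelian category. -/

set_option autoImplicit false
set_option linter.style.haveILetI false
universe v
open CategoryTheory CategoryTheory.Limits

namespace Groth.Agent.IndCofLib

variable {C : Type v} [SmallCategory C] [Abelian C]

theorem exists_absorb (n : ℕ) (hn : 0 < n) (m : ℕ) (hm : 0 < m) :
    ∃ k b : ℕ, m ∣ n ^ k * b ∧ Nat.Coprime b n := by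
  induction m using Nat.strong_induction_on with
  | _ m ih =>
    rcases eq_or_ne (Nat.gcd m n) 1 with hg | hg
    · exact ⟨0, m, by simp, hg⟩
    · have hg1 : 1 < Nat.gcd m n := by
        have := Nat.gcd_pos_of_pos_left n hm
        omega
      obtain ⟨m', hm'⟩ := Nat.gcd_dvd_left m n
      have hpos : 0 < m' := Nat.pos_of_ne_zero fun h0 => by rw [h0, mul_zero] at hm'; omega
      have hlt : m' < m := by
        rw [hm']
        exact lt_mul_of_one_lt_left hpos hg1
      obtain ⟨k, b, hdvd, hcop⟩ := ih m' hlt hpos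
      refine ⟨k + 1, b, ?_, hcop⟩
      rw [hm', pow_succ', mul_assoc]
      exact mul_dvd_mul (Nat.gcd_dvd_right m n) hdvd

theorem exists_bezout {a b : ℕ} (h : Nat.Coprime a b) : ∃ u v : ℤ, u * a + v * b = 1 := by
  refine ⟨Nat.gcdA a b, Nat.gcdB a b, ?_⟩
  have := Nat.gcd_eq_gcd_ab a b
  rw [h.gcd_eq_one, Nat.cast_one] at this
  rw [this]
  ring

/-- every object is killed by a positive integer -/
abbrev Tors (C : Type v) [SmallCategory C] [Abelian C] : Prop := ∀ X : C, ∃ m : ℕ, 0 < m ∧ m • 𝟙 X = 0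

/-- cofinite type -/
abbrev Cof (A : Ind C) : Prop := ∀ n : ℕ, 0 < n → Rep (kernel (n • 𝟙 A))

theorem smul_comp_cokernel {T A : Ind C} (x : T ⟶ A) (n : ℕ) : (n • x) ≫ cokernel.π (n • 𝟙 A) = 0 := by
  have h := x ≫= cokernel.condition (n • 𝟙 A)
  rwa [comp_zero, ← Category.assoc, Preadditive.comp_nsmul, Category.comp_id] at h

theorem mono_smul_of_coprime (htor : Tors C) (A : Ind C) {n : ℕ}
    (h : ∀ m : ℕ, ∀ X : C, m • 𝟙 X = 0 → 0 < m → ∃ m', m' • 𝟙 X = 0 ∧ Nat.Coprime n m') : Mono (n • 𝟙 A) := by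
  refine Preadditive.mono_of_cancel_zero _ fun {T} x hx => ?_
  rw [Preadditive.comp_nsmul, Category.comp_id] at hx
  refine IndStab.hom_ext_yoneda _ _ fun X z => ?_
  rw [comp_zero]
  obtain ⟨m, hm, hX⟩ := htor X
  obtain ⟨m', hX', hcop⟩ := h m X hX hm
  obtain ⟨u, v, huv⟩ := exists_bezout hcop
  have h1 : n • (z ≫ x) = 0 := by rw [← Preadditive.comp_nsmul, hx, comp_zero]
  have h2 : m' • (z ≫ x) = 0 := by
    have := congrArg (fun t => Ind.yoneda.map t ≫ (z ≫ x)) hX'
    simpa [Functor.map_nsmul, Preadditive.nsmul_comp] using this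
  calc z ≫ x = (u * n + v * m' : ℤ) • (z ≫ x) := by rw [huv, one_smul]
    _ = u • (n • (z ≫ x)) + v • (m' • (z ≫ x)) := by
        rw [add_smul, mul_smul, mul_smul, natCast_zsmul, natCast_zsmul]
    _ = 0 := by rw [h1, h2, smul_zero, smul_zero, add_zero]

/-- images of a chain in an Artinian object stabilise -/
theorem exists_stable {G : C} (hart : IsArtinianObject G) (X : ℕ → C) (g : ∀ m, X m ⟶ G)
    (h : ∀ m, g (m + 1) ≫ cokernel.π (g m) = 0) :
    ∃ N, ∀ n, N ≤ n → ∀ m, N ≤ m → g n ≫ cokernel.π (g m) = 0 := by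
  let S : ℕ →o (Subobject G)ᵒᵈ :=
    ⟨fun n => OrderDual.toDual (imageSubobject (g n)),
      monotone_nat_of_le_succ fun n => (imageSubobject_le_iff _ _).2 (h n)⟩
  obtain ⟨N, hN⟩ := antitone_chain_condition_of_isArtinianObject S
  refine ⟨N, fun n hn m hm => (imageSubobject_le_iff _ _).1 ?_⟩
  exact (congrArg OrderDual.ofDual ((hN n hn).symm.trans (hN m hm))).le

theorem stab (hart : ∀ X : C, IsArtinianObject X) (htor : Tors C) {A : Ind C} (hA : Cof A) {n : ℕ} (hn : 0 < n) :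
    ∃ N : ℕ, ∀ (M : ℕ) (T : Ind C) (x : T ⟶ A), ((n ^ N) • x) ≫ cokernel.π ((n ^ M) • 𝟙 A) = 0 := by
  have hpos : ∀ k, 0 < n ^ k := fun k => pow_pos hn k
  let K : ℕ → C := fun k => (hA (n ^ k) (hpos k)).witness
  let j : ∀ k, Ind.yoneda.obj (K k) ⟶ A := fun k => (hA (n ^ k) (hpos k)).getIso.hom ≫ kernel.ι _
  have hj : ∀ k, (n ^ k) • j k = 0 := fun k => by
    have h : j k ≫ ((n ^ k) • 𝟙 A) = 0 := by simp only [j, Category.assoc, kernel.condition, comp_zero]
    rwa [Preadditive.comp_nsmul, Category.comp_id] at h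
  have hjm : ∀ k, Mono (j k) := fun k => mono_comp _ _
  have hlift : ∀ k (T : Ind C) (x : T ⟶ A), (n ^ k) • x = 0 → ∃ x' : T ⟶ Ind.yoneda.obj (K k), x' ≫ j k = x :=
    fun k T x hx => ⟨kernel.lift ((n ^ k) • 𝟙 A) x (by rw [Preadditive.comp_nsmul, Category.comp_id, hx]) ≫
      (hA (n ^ k) (hpos k)).getIso.inv, by simp [j]⟩
  have hG : ∀ k, ∃ G : K (k + 1) ⟶ K 1, Ind.yoneda.map G ≫ j 1 = (n ^ k) • j (k + 1) := fun k => by
    obtain ⟨x', hx'⟩ := hlift 1 _ ((n ^ k) • j (k + 1)) (by rw [← mul_smul, pow_one, ← pow_succ']; exact hj _)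
    exact ⟨Ind.yoneda.preimage x', by rw [Functor.map_preimage, hx']⟩
  choose G hG using hG
  have hGstep : ∀ k, G (k + 1) ≫ cokernel.π (G k) = 0 := fun k => by
    obtain ⟨x', hx'⟩ := hlift (k + 1) _ (n • j (k + 1 + 1))
      (by rw [← mul_smul, ← pow_succ]; exact hj _)
    have : G (k + 1) = Ind.yoneda.preimage x' ≫ G k := by
      apply Ind.yoneda.map_injective
      haveI := hjm 1
      rw [← cancel_mono (j 1), Functor.map_comp, Category.assoc, hG, hG, Functor.map_preimage,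
        Preadditive.comp_nsmul, hx', ← mul_smul, ← pow_succ]
    rw [this, Category.assoc, cokernel.condition, comp_zero]
  obtain ⟨N, hN⟩ := exists_stable (hart (K 1)) (fun k => K (k + 1)) G hGstep
  have key : ∀ l, N ≤ l → ∀ (k : ℕ) (T : Ind C) (x : T ⟶ A), (n ^ (l + k)) • x = 0 →
      ((n ^ l) • x) ≫ cokernel.π ((n ^ (l + 1)) • 𝟙 A) = 0 := by
    intro l hl k
    induction k with
    | zero => intro T x hx; rw [show (n ^ l) • x = 0 from hx, zero_comp]
    | succ k ih =>
      intro T x hx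
      obtain ⟨x'', hx''⟩ := hlift (l + k + 1) T x hx
      obtain ⟨T', π, hπ, y, hy⟩ := exists_refine (G (l + k)) (G (l + k + 1)) (hN _ (by omega) _ (by omega))
      let f := Ind.yoneda.map π
      haveI : Epi f := inferInstance
      let y' : pullback f x'' ⟶ A := pullback.fst f x'' ≫ Ind.yoneda.map y ≫ j (l + k + 1 + 1)
      have hy' : (n ^ (l + k + 1)) • y' = (n ^ (l + k)) • (pullback.snd f x'' ≫ x) := by
        simp only [y', ← Preadditive.comp_nsmul, ← hG, ← Functor.map_comp_assoc, ← hy]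
        rw [Functor.map_comp_assoc, hG, ← Category.assoc, pullback.condition, Category.assoc,
          Preadditive.comp_nsmul, hx'']
      have h0 := ih _ (pullback.snd f x'' ≫ x - n • y') (by
        rw [smul_sub, ← mul_smul, ← pow_succ, hy', sub_self])
      have h1 : ((n ^ l) • n • y') ≫ cokernel.π ((n ^ (l + 1)) • 𝟙 A) = 0 := by
        rw [← mul_smul, ← pow_succ]
        exact smul_comp_cokernel _ _
      rw [smul_sub, Preadditive.sub_comp, h1, sub_zero, ← Preadditive.comp_nsmul, Category.assoc] at h0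
      exact (cancel_epi (pullback.snd f x'')).1 (h0.trans comp_zero.symm)
  have step : ∀ l, N ≤ l → ∀ (T : Ind C) (x : T ⟶ A),
      ((n ^ l) • x) ≫ cokernel.π ((n ^ (l + 1)) • 𝟙 A) = 0 := by
    intro l hl T x
    refine IndStab.hom_ext_yoneda _ _ fun X z => ?_
    rw [comp_zero, ← Category.assoc, Preadditive.comp_nsmul]
    obtain ⟨m, hm, hX⟩ := htor X
    have hw : m • (z ≫ x) = 0 := by
      have := congrArg (fun t => Ind.yoneda.map t ≫ (z ≫ x)) hX
      simpa [Functor.map_nsmul, Preadditive.nsmul_comp] using this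
    obtain ⟨k, b, hdvd, hcop⟩ := exists_absorb n hn m hm
    obtain ⟨u, v, huv⟩ := exists_bezout hcop
    obtain ⟨c, hc⟩ := hdvd
    have hb : (n ^ (l + k)) • b • (z ≫ x) = 0 := by
      rw [← mul_smul, pow_add, mul_assoc, hc, mul_comm m c, ← mul_assoc, mul_smul, hw, smul_zero]
    have e : z ≫ x = u • (b • (z ≫ x)) + v • (n • (z ≫ x)) := by
      rw [← natCast_zsmul _ b, ← natCast_zsmul _ n, ← mul_smul, ← mul_smul, ← add_smul, huv, one_smul]
    rw [e, smul_add, Preadditive.add_comp, smul_comm (n ^ l) u, smul_comm (n ^ l) v, Preadditive.zsmul_comp,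
      Preadditive.zsmul_comp, key l hl k _ _ hb, smul_zero, zero_add, ← mul_smul, ← pow_succ,
      smul_comp_cokernel, smul_zero]
  refine ⟨N, fun M T x => ?_⟩
  suffices h : imageSubobject ((n ^ N) • 𝟙 A) ≤ imageSubobject ((n ^ M) • 𝟙 A) by
    have := x ≫= (imageSubobject_le_iff _ _).1 h
    rwa [comp_zero, ← Category.assoc, Preadditive.comp_nsmul, Category.comp_id] at this
  rcases le_total M N with hMN | hMN
  · rw [show (n ^ N) • 𝟙 A = ((n ^ (N - M)) • 𝟙 A) ≫ ((n ^ M) • 𝟙 A) by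
      rw [Preadditive.nsmul_comp, Category.id_comp, ← mul_smul, ← pow_add, Nat.sub_add_cancel hMN]]
    exact imageSubobject_comp_le _ _
  · induction M, hMN using Nat.le_induction with
    | base => exact le_rfl
    | succ M hM ih =>
      refine ih.trans ((imageSubobject_le_iff _ _).2 ?_)
      exact step M hM A (𝟙 A)

/-- the torsion subobject -/
noncomputable abbrev tor (A : Ind C) (n : ℕ) : kernel (n • 𝟙 A) ⟶ A := kernel.ι _

theorem smul_tor (A : Ind C) (n : ℕ) : n • tor A n = 0 := by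
  have := kernel.condition (n • 𝟙 A)
  rwa [Preadditive.comp_nsmul, Category.comp_id] at this

theorem smul_comp_tor {T A : Ind C} {n : ℕ} (x : T ⟶ kernel (n • 𝟙 A)) : n • (x ≫ tor A n) = 0 := by
  rw [← Preadditive.comp_nsmul, smul_tor, comp_zero]

theorem exists_tor {T A : Ind C} (x : T ⟶ A) (n : ℕ) (hx : n • x = 0) :
    ∃ y : T ⟶ kernel (n • 𝟙 A), y ≫ tor A n = x :=
  ⟨kernel.lift _ x (by rw [Preadditive.comp_nsmul, Category.comp_id, hx]), kernel.lift_ι _ _ _⟩

/-- `x = n y + z` with `z` killed by `n ^ N` -/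
theorem exists_decomp {A : Ind C} {n N : ℕ}
    (hN : ∀ (M : ℕ) (T : Ind C) (x : T ⟶ A), ((n ^ N) • x) ≫ cokernel.π ((n ^ M) • 𝟙 A) = 0)
    {T : Ind C} (x : T ⟶ A) (M : ℕ) :
    ∃ (T' : Ind C) (π : T' ⟶ T) (_ : Epi π) (y : T' ⟶ A) (z : T' ⟶ kernel ((n ^ N) • 𝟙 A)),
      π ≫ x = (n ^ M) • y + z ≫ tor A (n ^ N) := by
  obtain ⟨T', π, hπ, y, hy⟩ := exists_refine _ _ (hN (N + M) T x)
  rw [Preadditive.comp_nsmul, Preadditive.comp_nsmul, Category.comp_id] at hy
  obtain ⟨z, hz⟩ := exists_tor (π ≫ x - (n ^ M) • y) (n ^ N)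
    (by rw [smul_sub, hy, ← mul_smul, ← pow_add, sub_self])
  exact ⟨T', π, hπ, y, z, by rw [hz, add_sub_cancel]⟩

theorem rep_coker (hart : ∀ X : C, IsArtinianObject X) (htor : Tors C) {A : Ind C} (hA : Cof A) {n : ℕ}
    (hn : 0 < n) : Rep (cokernel (n • 𝟙 A)) := by
  obtain ⟨N, hN⟩ := stab hart htor hA hn
  let h : kernel ((n ^ N) • 𝟙 A) ⟶ cokernel (n • 𝟙 A) := tor A (n ^ N) ≫ cokernel.π _
  obtain ⟨r, hr⟩ := exists_tor (n • tor A (n ^ (N + 1))) (n ^ N)
    (by rw [← mul_smul, ← pow_succ]; exact smul_tor A _)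
  haveI : Epi h := by
    rw [epi_iff_surjective_up_to_refinements]
    intro T q
    obtain ⟨T₁, π₁, hπ₁, a, ha⟩ := exists_epi_lift q (cokernel.π (n • 𝟙 A))
    obtain ⟨T₂, π₂, hπ₂, y, z, hz⟩ := exists_decomp hN a 1
    refine ⟨T₂, π₂ ≫ π₁, epi_comp _ _, z, ?_⟩
    rw [Category.assoc, ha, ← Category.assoc, hz, Preadditive.add_comp, pow_one, smul_comp_cokernel, zero_add,
      Category.assoc]
  refine rep_quot (hA _ (pow_pos hn _)) (hA _ (pow_pos hn _)) r h ?_ fun T x hx => ?_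
  · rw [← Category.assoc, hr]
    exact smul_comp_cokernel _ _
  · obtain ⟨T', π, hπ, y, hy⟩ := exists_refine (x ≫ tor A _) (n • 𝟙 A) (by rw [Category.assoc]; exact hx)
    rw [Preadditive.comp_nsmul, Category.comp_id] at hy
    obtain ⟨y', hy'⟩ := exists_tor y (n ^ (N + 1))
      (by rw [pow_succ, mul_smul, ← hy, ← Preadditive.comp_nsmul π, smul_comp_tor, comp_zero])
    refine comp_cokernel_eq_zero π y' ?_
    rw [← cancel_mono (tor A (n ^ N)), Category.assoc, Category.assoc, hr, Preadditive.comp_nsmul, hy', hy]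

theorem cof_kernel {A B : Ind C} (hA : Cof A) (hB : Cof B) (f : A ⟶ B) : Cof (kernel f) := fun n hn => by
  obtain ⟨φ, hφ⟩ := exists_tor (tor A n ≫ f) n (by rw [← Preadditive.nsmul_comp, smul_tor, zero_comp])
  obtain ⟨y, hy⟩ := exists_tor (tor (kernel f) n ≫ kernel.ι f) n
    (by rw [← Preadditive.nsmul_comp, smul_tor, zero_comp])
  have h1 : y ≫ φ = 0 := by
    rw [← cancel_mono (tor B n), Category.assoc, hφ, ← Category.assoc, hy]
    simp
  have h2 : (kernel.ι φ ≫ tor A n) ≫ f = 0 := by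
    rw [Category.assoc, ← hφ, kernel.condition_assoc, zero_comp]
  obtain ⟨w, hw⟩ := exists_tor (kernel.lift f _ h2) n (by
    rw [← cancel_mono (kernel.ι f), zero_comp, Preadditive.nsmul_comp, kernel.lift_ι, smul_comp_tor])
  refine rep_of_iso (⟨w, kernel.lift φ y h1, ?_, ?_⟩ : kernel φ ≅ kernel (n • 𝟙 (kernel f)))
    (rep_kernel (hA n hn) (hB n hn) φ)
  · rw [← cancel_mono (kernel.ι φ), ← cancel_mono (tor A n)]
    simp only [Category.assoc, kernel.lift_ι_assoc, Category.id_comp]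
    rw [hy, ← Category.assoc, hw, kernel.lift_ι]
  · rw [← cancel_mono (tor (kernel f) n), ← cancel_mono (kernel.ι f)]
    simp only [Category.assoc, Category.id_comp]
    rw [← Category.assoc w, hw, kernel.lift_ι, kernel.lift_ι_assoc, hy]

theorem cof_cokernel (hart : ∀ X : C, IsArtinianObject X) (htor : Tors C) {A B : Ind C} (hA : Cof A) (hB : Cof B)
    (f : A ⟶ B) : Cof (cokernel f) := fun n hn => by
  obtain ⟨N, hN⟩ := stab hart htor hA hn
  obtain ⟨M, hM⟩ := stab hart htor (cof_kernel hA hB f) hn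
  have hp : ∀ k, 0 < n ^ k := fun k => pow_pos hn k
  obtain ⟨u, hu⟩ := exists_tor (n • tor B (n ^ (N + 1))) (n ^ N)
    (by rw [← mul_smul, ← pow_succ]; exact smul_tor B _)
  obtain ⟨v, hv⟩ := exists_tor (tor A (n ^ N) ≫ f) (n ^ N) (by rw [← Preadditive.nsmul_comp, smul_tor, zero_comp])
  let P := pullback u v
  have hcond : n • (pullback.fst u v ≫ tor B (n ^ (N + 1))) = pullback.snd u v ≫ tor A (n ^ N) ≫ f := by
    rw [← Preadditive.comp_nsmul, ← hu, ← Category.assoc, pullback.condition, Category.assoc, hv]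
  obtain ⟨h, hh⟩ := exists_tor (pullback.fst u v ≫ tor B (n ^ (N + 1)) ≫ cokernel.π f) n (by
    rw [← Category.assoc, ← Preadditive.nsmul_comp, hcond]
    simp)
  let L := M + N + 1
  obtain ⟨a', ha'⟩ := exists_tor (tor A (n ^ L) ≫ f) (n ^ L) (by rw [← Preadditive.nsmul_comp, smul_tor, zero_comp])
  obtain ⟨b', hb'⟩ := exists_tor (pullback.fst u v ≫ tor B (n ^ (N + 1))) (n ^ L) (by
    rw [show L = M + (N + 1) from add_assoc _ _ _, pow_add n M (N + 1), mul_smul, smul_comp_tor, smul_zero])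
  haveI : Epi h := by
    rw [epi_iff_surjective_up_to_refinements]
    intro T q
    obtain ⟨T₁, π₁, hπ₁, b, hb⟩ := exists_epi_lift (q ≫ tor (cokernel f) n) (cokernel.π f)
    have h0 : (n • b) ≫ cokernel.π f = 0 := by
      rw [Preadditive.nsmul_comp, ← hb, ← Preadditive.comp_nsmul, smul_comp_tor, comp_zero]
    obtain ⟨T₂, π₂, hπ₂, a, ha⟩ := exists_refine _ _ h0
    obtain ⟨T₃, π₃, hπ₃, y, z, hz⟩ := exists_decomp hN a 1
    rw [pow_one] at hz
    have e : n • (π₃ ≫ π₂ ≫ b - y ≫ f) = z ≫ tor A (n ^ N) ≫ f := by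
      rw [smul_sub, ← Preadditive.comp_nsmul, ← Preadditive.comp_nsmul, ha, ← Category.assoc, hz,
        Preadditive.add_comp, Preadditive.nsmul_comp, Category.assoc, add_sub_cancel_left]
    obtain ⟨b₁, hb₁⟩ := exists_tor (π₃ ≫ π₂ ≫ b - y ≫ f) (n ^ (N + 1)) (by
      rw [pow_succ, mul_smul, e, ← Category.assoc, ← Preadditive.nsmul_comp, smul_comp_tor, zero_comp])
    have hc : b₁ ≫ u = z ≫ v := by
      rw [← cancel_mono (tor B (n ^ N)), Category.assoc, Category.assoc, hu, hv, Preadditive.comp_nsmul, hb₁, e]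
    refine ⟨T₃, π₃ ≫ π₂ ≫ π₁, inferInstance, pullback.lift b₁ z hc, ?_⟩
    rw [← cancel_mono (tor (cokernel f) n), Category.assoc (pullback.lift b₁ z hc), hh, pullback.lift_fst_assoc,
      ← Category.assoc b₁, hb₁]
    simp [hb]
  refine rep_quot (rep_pullback (rep_pullback (hB _ (hp _)) (hA _ (hp _)) (hB _ (hp _)) u v) (hA _ (hp L))
    (hB _ (hp L)) b' a') (rep_pullback (hB _ (hp _)) (hA _ (hp _)) (hB _ (hp _)) u v)
    (pullback.fst b' a') h ?_ fun T x hx => ?_
  · rw [← cancel_mono (tor (cokernel f) n), Category.assoc, hh, zero_comp,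
      ← Category.assoc (pullback.fst u v), ← hb', Category.assoc, ← Category.assoc (pullback.fst b' a'),
      pullback.condition, Category.assoc, ← Category.assoc a', ha']
    simp
  · have h0 : (x ≫ pullback.fst u v ≫ tor B (n ^ (N + 1))) ≫ cokernel.π f = 0 := by
      rw [Category.assoc, Category.assoc, ← hh, ← Category.assoc, hx, zero_comp]
    obtain ⟨T₁, π₁, hπ₁, a, ha⟩ := exists_refine _ _ h0
    have hker : ((n ^ (N + 1)) • a) ≫ f = 0 := by
      rw [Preadditive.nsmul_comp, ← ha, ← Preadditive.comp_nsmul, ← Preadditive.comp_nsmul,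
        ← Preadditive.comp_nsmul, smul_tor, comp_zero, comp_zero, comp_zero]
    obtain ⟨T₂, π₂, hπ₂, k, hk⟩ := exists_refine _ _ (hM (M + (N + 1)) _ (kernel.lift f _ hker))
    rw [Preadditive.comp_nsmul, Preadditive.comp_nsmul, Category.comp_id] at hk
    have hk' := congrArg (· ≫ kernel.ι f) hk
    simp only [Preadditive.nsmul_comp, Category.assoc, kernel.lift_ι, Preadditive.comp_nsmul, ← mul_smul,
      ← pow_add] at hk'
    obtain ⟨a₁, ha₁⟩ := exists_tor (π₂ ≫ a - k ≫ kernel.ι f) (n ^ L) (by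
      rw [smul_sub, show L = M + (N + 1) from add_assoc _ _ _, hk', sub_self])
    have hc : (π₂ ≫ π₁ ≫ x) ≫ b' = a₁ ≫ a' := by
      rw [← cancel_mono (tor B (n ^ L)), Category.assoc, hb', Category.assoc a₁, ha', ← Category.assoc a₁, ha₁,
        Preadditive.sub_comp, Category.assoc, Category.assoc k, kernel.condition, comp_zero, sub_zero, Category.assoc π₂, ← ha]
      simp
    refine comp_cokernel_eq_zero (π₂ ≫ π₁) (pullback.lift _ a₁ hc) ?_
    rw [pullback.lift_fst, Category.assoc]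

theorem cof_of_rep {X : Ind C} (hX : Rep X) : Cof X := fun _ _ => rep_kernel hX hX _

end Groth.Agent.IndCofLib
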