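import Groth.Agent.IndCofLib.Basic
import Mathlib.Data.Nat.Factorization.Induction
import Mathlib.CategoryTheory.Abelian.GrothendieckAxioms.Indization
import Mathlib.CategoryTheory.Abelian.GrothendieckCategory.Basic

/-! Divisible parts. -/

set_option autoImplicit false
set_option linter.style.haveILetI false
universe v
open CategoryTheory CategoryTheory.Limits

namespace Groth.Agent.IndCofLib

variable {C : Type v} [SmallCategory C] [Abelian C]

theorem smul_comp_cokernel_of_dvd {T A : Ind C} (x : T ⟶ A) {a b : ℕ} (h : b ∣ a) :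
    (a • x) ≫ cokernel.π (b • 𝟙 A) = 0 := by
  obtain ⟨c, rfl⟩ := h
  rw [mul_smul]
  exact smul_comp_cokernel _ _

/-- divisible by every positive integer -/
abbrev Inf {T A : Ind C} (x : T ⟶ A) : Prop := ∀ m : ℕ, 0 < m → x ≫ cokernel.π (m • 𝟙 A) = 0

theorem inf_comp {T T' A : Ind C} {x : T ⟶ A} (h : Inf x) (t : T' ⟶ T) : Inf (t ≫ x) := fun m hm => by
  rw [Category.assoc, h m hm, comp_zero]

theorem inf_of_killed {A : Ind C} {n N : ℕ} (hn : 0 < n)
    (hN : ∀ (M : ℕ) (T : Ind C) (x : T ⟶ A), ((n ^ N) • x) ≫ cokernel.π ((n ^ M) • 𝟙 A) = 0)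
    {T : Ind C} (x : T ⟶ A) {a : ℕ} (hx : (n ^ a) • x = 0) (h : x ≫ cokernel.π ((n ^ N) • 𝟙 A) = 0) : Inf x := by
  intro m hm
  obtain ⟨k, b, hdvd, hcop⟩ := exists_absorb n hn m hm
  obtain ⟨T₁, π₁, hπ₁, y₀, hy₀⟩ := exists_refine _ _ h
  rw [Preadditive.comp_nsmul, Category.comp_id] at hy₀
  obtain ⟨T₂, π₂, hπ₂, y, hy⟩ := exists_refine _ _ (hN k _ y₀)
  rw [Preadditive.comp_nsmul, Preadditive.comp_nsmul, Category.comp_id] at hy
  have hy' : (π₂ ≫ π₁) ≫ x = (n ^ k) • y := by rw [Category.assoc, hy₀, Preadditive.comp_nsmul, hy]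
  have h0 : (n ^ (a + k)) • y = 0 := by
    rw [pow_add, mul_smul, ← hy', ← Preadditive.comp_nsmul, hx, comp_zero]
  obtain ⟨u, v, huv⟩ := exists_bezout (hcop.pow_right (a + k))
  have e : y = b • (u • y) := by
    conv_lhs => rw [← one_smul ℤ y, ← huv, add_smul, mul_smul, mul_smul, natCast_zsmul, natCast_zsmul, h0,
      smul_zero, add_zero]
    exact smul_comm u b y
  rw [← cancel_epi (π₂ ≫ π₁), comp_zero, ← Category.assoc, hy', e, ← mul_smul]
  exact smul_comp_cokernel_of_dvd _ hdvd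

theorem exists_ulm (A : Ind C) : ∃ D : Subobject A, ∀ (T : Ind C) (x : T ⟶ A),
    x ≫ cokernel.π D.arrow = 0 ↔ Inf x := by
  let f : A ⟶ ∏ᶜ fun m : ℕ => cokernel ((m + 1) • 𝟙 A) := Pi.lift fun m => cokernel.π _
  refine ⟨kernelSubobject f, fun T x => ⟨fun h m hm => ?_, fun h => ?_⟩⟩
  · obtain ⟨y, rfl⟩ := mono_lift_of_comp_cokernel x _ h
    obtain ⟨m, rfl⟩ := Nat.exists_eq_succ_of_ne_zero hm.ne'
    have h1 := congrArg (· ≫ Pi.π (fun m : ℕ => cokernel ((m + 1) • 𝟙 A)) m) (kernelSubobject_arrow_comp f)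
    simp only [f, Category.assoc, Pi.lift_π, zero_comp] at h1
    rw [Category.assoc, h1, comp_zero]
  · have hx : x ≫ f = 0 := by
      apply Pi.hom_ext
      intro m
      simp only [f, Category.assoc, Pi.lift_π, zero_comp]
      exact h (m + 1) (Nat.succ_pos m)
    rw [← factorThruKernelSubobject_comp_arrow f x hx, Category.assoc, cokernel.condition, comp_zero]

theorem exists_divisible (hart : ∀ X : C, IsArtinianObject X) (htor : Tors C) {A : Ind C} (hA : Cof A) :
    ∃ D : Subobject A, (∀ k : ℕ, 0 < k → Epi (k • 𝟙 (D : Ind C))) ∧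
      (∀ D' : Subobject A, (∀ k : ℕ, 0 < k → Epi (k • 𝟙 (D' : Ind C))) → D' ≤ D) ∧
      Cof (D : Ind C) ∧ Cof (cokernel D.arrow) := by
  obtain ⟨D, hD⟩ := exists_ulm A
  have hDa : Inf D.arrow := (hD _ _).1 (cokernel.condition _)
  have hcof : Cof (D : Ind C) := fun n hn => by
    obtain ⟨N, hN⟩ := stab hart htor hA hn
    let φ : kernel (n • 𝟙 A) ⟶ cokernel ((n ^ N) • 𝟙 A) := tor A n ≫ cokernel.π _
    obtain ⟨y, hy⟩ := exists_tor (tor (D : Ind C) n ≫ D.arrow) n
      (by rw [← Preadditive.nsmul_comp, smul_tor, zero_comp])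
    have h1 : y ≫ φ = 0 := by
      rw [← Category.assoc, hy, Category.assoc, hDa _ (pow_pos hn _), comp_zero]
    have hi : Inf (kernel.ι φ ≫ tor A n) := inf_of_killed hn hN (a := 1) _
      (by rw [pow_one, smul_comp_tor]) (by rw [Category.assoc]; exact kernel.condition φ)
    obtain ⟨z, hz⟩ := mono_lift_of_comp_cokernel _ D ((hD _ _).2 hi)
    obtain ⟨w, hw⟩ := exists_tor z n (by
      rw [← cancel_mono D.arrow, zero_comp, Preadditive.nsmul_comp, hz, smul_comp_tor])
    refine rep_of_iso (⟨w, kernel.lift φ y h1, ?_, ?_⟩ : kernel φ ≅ kernel (n • 𝟙 (D : Ind C)))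
      (rep_kernel (hA n hn) (rep_coker hart htor hA (pow_pos hn _)) φ)
    · rw [← cancel_mono (kernel.ι φ), ← cancel_mono (tor A n)]
      simp only [Category.assoc, kernel.lift_ι_assoc, Category.id_comp]
      rw [hy, ← Category.assoc, hw, hz]
    · rw [← cancel_mono (tor (D : Ind C) n), ← cancel_mono D.arrow]
      simp only [Category.assoc, Category.id_comp]
      rw [← Category.assoc w, hw, hz, kernel.lift_ι_assoc, hy]
  refine ⟨D, fun k hk => ?_, fun D' hD' => ?_, hcof, cof_cokernel hart htor hcof hA _⟩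
  · rw [Preadditive.epi_iff_cancel_zero]
    intro Q q hq
    refine IndStab.hom_ext_yoneda _ _ fun X z => ?_
    rw [comp_zero]
    obtain ⟨n, hn, hX⟩ := htor X
    let x := z ≫ D.arrow
    have hx : n • x = 0 := by
      have := congrArg (fun t => Ind.yoneda.map t ≫ x) hX
      simpa [Functor.map_nsmul, Preadditive.nsmul_comp] using this
    have hw : 0 < n * k := Nat.mul_pos hn hk
    obtain ⟨N, hN⟩ := stab hart htor hA hw
    obtain ⟨T, π, hπ, y, hy⟩ := exists_refine x _ (inf_comp hDa z _ (pow_pos hw (N + 1)))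
    rw [Preadditive.comp_nsmul, Category.comp_id] at hy
    have hzk : k • (((n * k) ^ N * n) • y) = π ≫ x := by
      rw [hy, ← mul_smul, pow_succ]
      congr 1
      ring
    have hinf : Inf (((n * k) ^ N * n) • y) := by
      refine inf_of_killed hw hN (a := 1) _ ?_ (smul_comp_cokernel_of_dvd _ (dvd_mul_right _ _))
      rw [pow_one, mul_smul n k, hzk, ← Preadditive.comp_nsmul, hx, comp_zero]
    obtain ⟨y', hy'⟩ := mono_lift_of_comp_cokernel _ D ((hD _ _).2 hinf)
    have e : π ≫ z = y' ≫ (k • 𝟙 (D : Ind C)) := by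
      rw [← cancel_mono D.arrow, Category.assoc, Category.assoc, Preadditive.nsmul_comp, Category.id_comp,
        Preadditive.comp_nsmul, hy', hzk]
    rw [← cancel_epi π, comp_zero, ← Category.assoc, e, Category.assoc, hq, comp_zero]
  · rw [le_iff_comp_cokernel, hD]
    intro m hm
    haveI := hD' m hm
    rw [← cancel_epi (m • 𝟙 (D' : Ind C)), comp_zero, ← Category.assoc, Preadditive.nsmul_comp,
      Category.id_comp]
    exact smul_comp_cokernel _ _

theorem divisiblyML (hart : ∀ X : C, IsArtinianObject X) (htor : Tors C) {A : Ind C} (hA : Cof A) :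
    ((∀ n : ℕ, 0 < n → ∃ m : ℕ, 0 < m ∧ n ∣ m ∧ ∀ m' : ℕ, 0 < m' → m ∣ m' →
        imageSubobject ((m' / n) • 𝟙 A) = imageSubobject ((m / n) • 𝟙 A)) ↔
      ∃ B' : Subobject A, (∀ k : ℕ, 0 < k → Epi (k • 𝟙 (B' : Ind C))) ∧
        (Ind.yoneda (C := C)).essImage (cokernel B'.arrow)) ∧
    ((∃ B' : Subobject A, (∀ k : ℕ, 0 < k → Epi (k • 𝟙 (B' : Ind C))) ∧
        (Ind.yoneda (C := C)).essImage (cokernel B'.arrow)) ↔
      {p : ℕ | p.Prime ∧ ¬ Epi (p • 𝟙 A)}.Finite) := by
  have h12 : (∀ n : ℕ, 0 < n → ∃ m : ℕ, 0 < m ∧ n ∣ m ∧ ∀ m' : ℕ, 0 < m' → m ∣ m' →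
        imageSubobject ((m' / n) • 𝟙 A) = imageSubobject ((m / n) • 𝟙 A)) →
      ∃ B' : Subobject A, (∀ k : ℕ, 0 < k → Epi (k • 𝟙 (B' : Ind C))) ∧
        (Ind.yoneda (C := C)).essImage (cokernel B'.arrow) := by
    intro h
    obtain ⟨m, hm, -, hs⟩ := h 1 one_pos
    simp only [Nat.div_one] at hs
    refine ⟨imageSubobject (m • 𝟙 A), fun k hk => ?_, ?_⟩
    · have he := hs (m * k) (Nat.mul_pos hm hk) ⟨k, rfl⟩
      rw [epi_iff_surjective_up_to_refinements]
      intro T x
      have h1 : (x ≫ (imageSubobject (m • 𝟙 A)).arrow) ≫ cokernel.π ((m * k) • 𝟙 A) = 0 := by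
        rw [Category.assoc, ← Subobject.ofLE_arrow he.ge, Category.assoc,
          show (imageSubobject ((m * k) • 𝟙 A)).arrow ≫ cokernel.π ((m * k) • 𝟙 A) = 0 by
            rw [← cancel_epi (factorThruImageSubobject ((m * k) • 𝟙 A)), imageSubobject_arrow_comp_assoc,
              cokernel.condition, comp_zero],
          comp_zero, comp_zero]
      obtain ⟨T', π, hπ, y, hy⟩ := exists_refine _ _ h1
      refine ⟨T', π, hπ, y ≫ factorThruImageSubobject (m • 𝟙 A), ?_⟩
      rw [← cancel_mono (imageSubobject (m • 𝟙 A)).arrow]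
      simp only [Category.assoc, Preadditive.nsmul_comp, Category.id_comp, Preadditive.comp_nsmul,
        imageSubobject_arrow_comp, ← mul_smul]
      rw [hy, Preadditive.comp_nsmul, mul_comm k m]
    · have e1 : (m • 𝟙 A) ≫ cokernel.π (imageSubobject (m • 𝟙 A)).arrow = 0 := by
        have h := factorThruImageSubobject (m • 𝟙 A) ≫= cokernel.condition (imageSubobject (m • 𝟙 A)).arrow
        rwa [comp_zero, ← Category.assoc, imageSubobject_arrow_comp] at h
      have e2 : (imageSubobject (m • 𝟙 A)).arrow ≫ cokernel.π (m • 𝟙 A) = 0 := by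
        rw [← cancel_epi (factorThruImageSubobject (m • 𝟙 A)), imageSubobject_arrow_comp_assoc,
          cokernel.condition, comp_zero]
      exact rep_of_iso ⟨cokernel.desc _ _ e1, cokernel.desc _ _ e2, by ext; simp, by ext; simp⟩
        (rep_coker hart htor hA hm)
  have h23 : (∃ B' : Subobject A, (∀ k : ℕ, 0 < k → Epi (k • 𝟙 (B' : Ind C))) ∧
        (Ind.yoneda (C := C)).essImage (cokernel B'.arrow)) →
      {p : ℕ | p.Prime ∧ ¬ Epi (p • 𝟙 A)}.Finite := by
    rintro ⟨B', hB, hQ⟩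
    obtain ⟨m, hm, hQm⟩ := rep_killed htor hQ
    refine (Set.finite_le_nat m).subset fun p ⟨hp, hne⟩ => Nat.le_of_dvd hm ?_
    by_contra hdvd
    refine hne ?_
    obtain ⟨u, v, huv⟩ := exists_bezout ((Nat.Prime.coprime_iff_not_dvd hp).2 hdvd)
    rw [epi_iff_surjective_up_to_refinements]
    intro T x
    obtain ⟨b, hb⟩ := mono_lift_of_comp_cokernel (m • x) B' (by
      have h0 := (x ≫ cokernel.π B'.arrow) ≫= hQm
      rw [Preadditive.comp_nsmul, Category.comp_id, comp_zero] at h0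
      rw [Preadditive.nsmul_comp, h0])
    haveI := hB p hp.pos
    obtain ⟨T', π, hπ, c, hc⟩ := exists_epi_lift b (p • 𝟙 (B' : Ind C))
    refine ⟨T', π, hπ, u • (π ≫ x) + v • (c ≫ B'.arrow), ?_⟩
    have hv : p • (c ≫ B'.arrow) = m • (π ≫ x) := by
      rw [← Preadditive.comp_nsmul π x m, ← hb, ← Category.assoc, hc, Category.assoc, Preadditive.nsmul_comp,
        Category.id_comp, Preadditive.comp_nsmul]
    rw [Preadditive.comp_nsmul, Category.comp_id, smul_add, smul_comm p u, smul_comm p v, hv,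
      ← natCast_zsmul _ p, ← natCast_zsmul _ m, ← mul_smul, ← mul_smul, ← add_smul, huv, one_smul]
  have h31 : {p : ℕ | p.Prime ∧ ¬ Epi (p • 𝟙 A)}.Finite →
      ∀ n : ℕ, 0 < n → ∃ m : ℕ, 0 < m ∧ n ∣ m ∧ ∀ m' : ℕ, 0 < m' → m ∣ m' →
        imageSubobject ((m' / n) • 𝟙 A) = imageSubobject ((m / n) • 𝟙 A) := by
    intro hfin
    have hN : ∀ p : ℕ, ∃ N : ℕ, p.Prime → ∀ (M : ℕ) (T : Ind C) (x : T ⟶ A),
        ((p ^ N) • x) ≫ cokernel.π ((p ^ M) • 𝟙 A) = 0 := fun p => by
      by_cases hp : p.Prime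
      · obtain ⟨N, hN⟩ := stab hart htor hA hp.pos
        exact ⟨N, fun _ => hN⟩
      · exact ⟨0, fun h => absurd h hp⟩
    choose N hN using hN
    let M := ∏ p ∈ hfin.toFinset, p ^ N p
    have hM : 0 < M := Finset.prod_pos fun p hp => pow_pos ((hfin.mem_toFinset.1 hp).1.pos) _
    have hprime : ∀ q : ℕ, q.Prime → ∀ (T : Ind C) (x : T ⟶ A), (M • x) ≫ cokernel.π ((M * q) • 𝟙 A) = 0 := by
      intro q hq T x
      by_cases he : Epi (q • 𝟙 A)
      · obtain ⟨T', π, hπ, y, hy⟩ := exists_epi_lift x (q • 𝟙 A)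
        rw [Preadditive.comp_nsmul, Category.comp_id] at hy
        rw [← cancel_epi π, comp_zero, ← Category.assoc, Preadditive.comp_nsmul, hy, ← mul_smul]
        exact smul_comp_cokernel _ _
      · obtain ⟨r, hr⟩ : q ^ N q ∣ M := Finset.dvd_prod_of_mem _ (hfin.mem_toFinset.2 ⟨hq, he⟩)
        obtain ⟨T', π, hπ, y, hy⟩ := exists_refine _ _ (hN q hq (N q + 1) T x)
        rw [Preadditive.comp_nsmul, Preadditive.comp_nsmul, Category.comp_id] at hy
        have e : π ≫ (M • x) = (M * q) • y := by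
          rw [Preadditive.comp_nsmul, hr, mul_comm (q ^ N q) r, mul_smul r (q ^ N q) (π ≫ x), hy, ← mul_smul]
          congr 1
          ring
        rw [← cancel_epi π, comp_zero, ← Category.assoc, e]
        exact smul_comp_cokernel _ _
    have hall : ∀ k : ℕ, 0 < k → ∀ (T : Ind C) (x : T ⟶ A), (M • x) ≫ cokernel.π ((M * k) • 𝟙 A) = 0 := by
      intro k
      induction k using Nat.recOnMul with
      | zero => exact fun h => absurd h (lt_irrefl 0)
      | one => intro _ T x; rw [mul_one]; exact smul_comp_cokernel _ _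
      | prime q hq => exact fun _ => hprime q hq
      | mul a b ha hb =>
        intro hab T x
        obtain ⟨T', π, hπ, y, hy⟩ := exists_refine _ _ (ha (Nat.pos_of_mul_pos_right hab) T x)
        obtain ⟨T'', π', hπ', z, hz⟩ := exists_refine _ _ (hb (Nat.pos_of_mul_pos_left hab) T' y)
        rw [Preadditive.comp_nsmul, Preadditive.comp_nsmul, Category.comp_id] at hy hz
        have e : (π' ≫ π) ≫ (M • x) = (M * (a * b)) • z := by
          rw [Category.assoc, Preadditive.comp_nsmul π, hy, mul_comm M a, mul_smul, Preadditive.comp_nsmul π',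
            Preadditive.comp_nsmul π', hz, ← mul_smul]
          congr 1
          ring
        rw [← cancel_epi (π' ≫ π), comp_zero, ← Category.assoc, e]
        exact smul_comp_cokernel _ _
    intro n hn
    refine ⟨n * M, Nat.mul_pos hn hM, dvd_mul_right n M, fun m' hm' hdvd => ?_⟩
    obtain ⟨k, rfl⟩ := hdvd
    rw [mul_assoc, Nat.mul_div_cancel_left _ hn, Nat.mul_div_cancel_left _ hn]
    refine le_antisymm ((imageSubobject_le_iff _ _).2 ?_) ((imageSubobject_le_iff _ _).2 ?_)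
    · exact smul_comp_cokernel_of_dvd _ (dvd_mul_right M k)
    · exact hall k (Nat.pos_of_mul_pos_left hm') A (𝟙 A)
  exact ⟨⟨h12, fun h => h31 (h23 h)⟩, ⟨h23, fun h => h12 (h31 h)⟩⟩

end Groth.Agent.IndCofLib
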