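import Groth.Agent.IndStab.Main
import Mathlib.CategoryTheory.Abelian.Refinements
import Mathlib.CategoryTheory.Limits.Preserves.Shapes.Pullbacks
import Mathlib.CategoryTheory.Limits.Preserves.Shapes.Kernels
import Mathlib.Algebra.Homology.ShortComplex.Exact

/-! Representable ind-objects are closed under kernels, cokernels and fibre products; refinements. -/

set_option autoImplicit false
set_option linter.style.haveILetI false
universe v
open CategoryTheory CategoryTheory.Limits

namespace Groth.Agent.IndCofLib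

variable {C : Type v} [SmallCategory C] [Abelian C]

instance additive_yoneda : (Ind.yoneda (C := C)).Additive :=
  haveI := preservesBinaryBiproducts_of_preservesBinaryCoproducts (Ind.yoneda (C := C))
  Functor.additive_of_preservesBinaryBiproducts _

/-- representable ind-objects -/
abbrev Rep (X : Ind C) : Prop := (Ind.yoneda (C := C)).essImage X

omit [Abelian C] in
theorem rep_of_iso {X Y : Ind C} (e : X ≅ Y) (hX : Rep X) : Rep Y :=
  ⟨hX.witness, ⟨hX.getIso ≪≫ e⟩⟩

theorem rep_kernel {X Y : Ind C} (hX : Rep X) (hY : Rep Y) (f : X ⟶ Y) : Rep (kernel f) := by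
  let f' := Ind.yoneda.preimage (hX.getIso.hom ≫ f ≫ hY.getIso.inv)
  refine ⟨kernel f', ⟨PreservesKernel.iso Ind.yoneda f' ≪≫ kernel.mapIso _ _ hX.getIso hY.getIso ?_⟩⟩
  simp [f']

theorem rep_cokernel {X Y : Ind C} (hX : Rep X) (hY : Rep Y) (f : X ⟶ Y) : Rep (cokernel f) := by
  let f' := Ind.yoneda.preimage (hX.getIso.hom ≫ f ≫ hY.getIso.inv)
  refine ⟨cokernel f', ⟨PreservesCokernel.iso Ind.yoneda f' ≪≫ cokernel.mapIso _ _ hX.getIso hY.getIso ?_⟩⟩
  simp [f']

theorem rep_pullback {X Y Z : Ind C} (hX : Rep X) (hY : Rep Y) (hZ : Rep Z) (f : X ⟶ Z) (g : Y ⟶ Z) :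
    Rep (pullback f g) := by
  let f' := Ind.yoneda.preimage (hX.getIso.hom ≫ f ≫ hZ.getIso.inv)
  let g' := Ind.yoneda.preimage (hY.getIso.hom ≫ g ≫ hZ.getIso.inv)
  exact ⟨pullback f' g', ⟨PreservesPullback.iso Ind.yoneda f' g' ≪≫
    asIso (pullback.map _ _ _ _ hX.getIso.hom hY.getIso.hom hZ.getIso.hom (by simp [f']) (by simp [g']))⟩⟩

theorem rep_killed (htor : ∀ X : C, ∃ m : ℕ, 0 < m ∧ m • 𝟙 X = 0) {X : Ind C} (hX : Rep X) :
    ∃ m : ℕ, 0 < m ∧ m • 𝟙 X = 0 := by
  obtain ⟨m, hm, h⟩ := htor hX.witness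
  refine ⟨m, hm, ?_⟩
  have h1 : m • 𝟙 (Ind.yoneda.obj hX.witness) = 0 := by
    rw [← CategoryTheory.Functor.map_id, ← Functor.map_nsmul, h, Functor.map_zero]
  have e : m • 𝟙 X = hX.getIso.inv ≫ (m • 𝟙 _) ≫ hX.getIso.hom := by
    rw [Preadditive.nsmul_comp, Preadditive.comp_nsmul, Category.id_comp, Iso.inv_hom_id]
  rw [e, h1]
  simp

section Abelian

variable {V : Type*} [Category V] [Abelian V]

theorem exists_refine {T X Y : V} (x : T ⟶ Y) (g : X ⟶ Y) (h : x ≫ cokernel.π g = 0) :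
    ∃ (T' : V) (π : T' ⟶ T) (_ : Epi π) (y : T' ⟶ X), π ≫ x = y ≫ g :=
  ((ShortComplex.mk g (cokernel.π g) (cokernel.condition g)).exact_of_g_is_cokernel
    (cokernelIsCokernel g)).exact_up_to_refinements x h

theorem comp_cokernel_eq_zero {T T' X Y : V} {x : T ⟶ Y} {g : X ⟶ Y} (π : T' ⟶ T) [Epi π] (y : T' ⟶ X)
    (h : π ≫ x = y ≫ g) : x ≫ cokernel.π g = 0 := by
  rw [← cancel_epi π, ← Category.assoc, h, Category.assoc, cokernel.condition, comp_zero, comp_zero]

theorem exists_epi_lift {T X Y : V} (x : T ⟶ Y) (g : X ⟶ Y) [Epi g] :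
    ∃ (T' : V) (π : T' ⟶ T) (_ : Epi π) (y : T' ⟶ X), π ≫ x = y ≫ g :=
  ⟨pullback x g, pullback.fst x g, inferInstance, pullback.snd x g, pullback.condition⟩

theorem imageSubobject_le_iff {X X' Y : V} (f : X ⟶ Y) (g : X' ⟶ Y) :
    imageSubobject f ≤ imageSubobject g ↔ f ≫ cokernel.π g = 0 := by
  have h0 : (imageSubobject g).arrow ≫ cokernel.π g = 0 := by
    rw [← cancel_epi (factorThruImageSubobject g), imageSubobject_arrow_comp_assoc, cokernel.condition, comp_zero]
  refine ⟨fun h => ?_, fun h => ?_⟩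
  · calc f ≫ cokernel.π g
        = factorThruImageSubobject f ≫ Subobject.ofLE _ _ h ≫ (imageSubobject g).arrow ≫ cokernel.π g := by simp
      _ = 0 := by rw [h0, comp_zero, comp_zero]
  · have hk : cokernel.π g ≫ cokernel.desc g (cokernel.π (imageSubobject g).arrow) (by
        have h := factorThruImageSubobject g ≫= cokernel.condition (imageSubobject g).arrow
        rwa [comp_zero, ← Category.assoc, imageSubobject_arrow_comp] at h) =
        cokernel.π (imageSubobject g).arrow := cokernel.π_desc _ _ _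
    refine imageSubobject_le _ (Abelian.monoLift (imageSubobject g).arrow f ?_) (Abelian.monoLift_comp _ _ _)
    rw [← hk, ← Category.assoc, h, zero_comp]

theorem mono_lift_of_comp_cokernel {T Y : V} (x : T ⟶ Y) (D : Subobject Y) (h : x ≫ cokernel.π D.arrow = 0) :
    ∃ y : T ⟶ (D : V), y ≫ D.arrow = x :=
  ⟨Abelian.monoLift D.arrow x h, Abelian.monoLift_comp _ _ _⟩

theorem le_iff_comp_cokernel {Y : V} (D E : Subobject Y) : D ≤ E ↔ D.arrow ≫ cokernel.π E.arrow = 0 := by
  refine ⟨fun h => ?_, fun h => ?_⟩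
  · rw [← Subobject.ofLE_arrow h, Category.assoc, cokernel.condition, comp_zero]
  · obtain ⟨y, hy⟩ := mono_lift_of_comp_cokernel _ _ h
    exact Subobject.le_of_comm y hy

end Abelian

theorem rep_quot {R P Q : Ind C} (hR : Rep R) (hP : Rep P) (r : R ⟶ P) (h : P ⟶ Q) [Epi h] (w : r ≫ h = 0)
    (hex : ∀ (T : Ind C) (x : T ⟶ P), x ≫ h = 0 → x ≫ cokernel.π r = 0) : Rep Q := by
  have hE : (ShortComplex.mk r h w).Exact := by
    rw [ShortComplex.exact_iff_exact_up_to_refinements]
    intro T x hx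
    exact exists_refine x r (hex T x hx)
  haveI : Epi (ShortComplex.mk r h w).g := (inferInstance : Epi h)
  exact rep_of_iso (IsColimit.coconePointUniqueUpToIso (cokernelIsCokernel r) hE.gIsCokernel) (rep_cokernel hR hP r)

end Groth.Agent.IndCofLib
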