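import Groth.Agent.IndCofLib.Basic
import Mathlib.Data.Nat.Factorization.Basic

/-! The `p`-primary case. -/

set_option autoImplicit false
set_option linter.style.haveILetI false
universe v
open CategoryTheory CategoryTheory.Limits

namespace Groth.Agent.IndCofLib

variable {C : Type v} [SmallCategory C] [Abelian C]

theorem tors_of_pow {p : ℕ} (hp : p.Prime) (htor : ∀ X : C, ∃ n : ℕ, (p ^ n) • 𝟙 X = 0) : Tors C := fun X => by
  obtain ⟨n, hn⟩ := htor X
  exact ⟨p ^ n, pow_pos hp.pos n, hn⟩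

theorem cof_of_pow {p : ℕ} (hp : p.Prime) (htor : ∀ X : C, ∃ n : ℕ, (p ^ n) • 𝟙 X = 0) {A : Ind C}
    (hA : ∀ n : ℕ, Rep (kernel ((p ^ n) • 𝟙 A))) : Cof A := fun n hn => by
  obtain ⟨r, n', hn', rfl⟩ := Nat.exists_eq_pow_mul_and_not_dvd hn.ne' p hp.ne_one
  haveI : Mono (n' • 𝟙 A) := mono_smul_of_coprime (tors_of_pow hp htor) A fun m X _ _ => by
    obtain ⟨k, hk⟩ := htor X
    exact ⟨p ^ k, hk, Nat.Coprime.pow_right k ((Nat.Prime.coprime_iff_not_dvd hp).2 hn').symm⟩
  obtain ⟨a, ha⟩ := exists_tor (tor A (p ^ r)) (p ^ r * n') (by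
    rw [mul_comm, mul_smul, smul_tor, smul_zero])
  obtain ⟨b, hb⟩ := exists_tor (tor A (p ^ r * n')) (p ^ r) (by
    rw [← cancel_mono (n' • 𝟙 A), zero_comp, Preadditive.comp_nsmul, Category.comp_id, ← mul_smul,
      mul_comm n', smul_tor])
  exact rep_of_iso ⟨a, b, by rw [← cancel_mono (tor A _), Category.assoc, hb, ha, Category.id_comp],
    by rw [← cancel_mono (tor A _), Category.assoc, ha, hb, Category.id_comp]⟩ (hA r)

end Groth.Agent.IndCofLib
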